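import Groth.Agent.Lib.Helper34.Adelic.H1
import Groth.Agent.Lib.Helper88.FunFldWeil

/-!
# `H¹(C, O_C)` and the repartitions of the function field (helper34)
-/

set_option autoImplicit false
set_option linter.style.haveILetI false

namespace Groth.Agent.Lib.Helper34.Curve

universe u

open AlgebraicGeometry CategoryTheory FunFld IsLocalRing Opposite TopologicalSpace
open Groth.Agent.Lib.Helper34.FunSheaf Groth.Agent.Lib.Helper88.FF
open scoped Classical

variable (k : Type u) [Field k] (C : Scheme.{u}) [C.Over (Spec (CommRingCat.of k))] [IsIntegral C]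
  [Smooth (C ↘ Spec (CommRingCat.of k))] [IsProper (C ↘ Spec (CommRingCat.of k))]
  [GeometricallyIrreducible (C ↘ Spec (CommRingCat.of k))] [PerfectField k]
  (hdim : topologicalKrullDim C = 1)

include k in
omit [Smooth (C ↘ Spec (CommRingCat.of k))]
  [GeometricallyIrreducible (C ↘ Spec (CommRingCat.of k))] [PerfectField k] in
lemma compactSpace : CompactSpace C :=
  QuasiCompact.compactSpace_of_compactSpace (C ↘ Spec (CommRingCat.of k))

include k in
omit [Smooth (C ↘ Spec (CommRingCat.of k))]
  [GeometricallyIrreducible (C ↘ Spec (CommRingCat.of k))] [PerfectField k] in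
/-- A global section of `𝒜` is regular at all but finitely many points. -/
lemma finite_bad {a : C → C.functionField} (ha : a ∈ (Asub C).S ⊤) :
    {x : C | a x ∉ O C x}.Finite := by
  haveI := compactSpace k C
  choose V hyV hfin using fun y : C => ha.1 y trivial
  obtain ⟨t, ht⟩ := CompactSpace.elim_nhds_subcover (fun y => (V y : Set C))
    (fun y => (V y).isOpen.mem_nhds (hyV y))
  refine (t.finite_toSet.biUnion (fun y _ => hfin y)).subset ?_
  intro x hx
  have hxt : x ∈ ⋃ y ∈ t, (V y : Set C) := by rw [ht]; trivial
  simp only [Set.mem_iUnion] at hxt ⊢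
  obtain ⟨y, hyt, hxy⟩ := hxt
  exact ⟨y, hyt, hxy, hx⟩

/-- The function on points attached to a repartition. -/
noncomputable def thetaFun (a : Place k C.functionField → C.functionField) :
    C → C.functionField :=
  fun x => if hx : x ≠ genericPoint C then a (placeOf k C hdim x hx) else 0

lemma thetaFun_of_ne (a : Place k C.functionField → C.functionField) {x : C}
    (hx : x ≠ genericPoint C) : thetaFun k C hdim a x = a (placeOf k C hdim x hx) := dif_pos hx

lemma thetaFun_center (a : Place k C.functionField → C.functionField)
    (P : Place k C.functionField) : thetaFun k C hdim a (center k C P) = a P := by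
  rw [thetaFun_of_ne k C hdim a (center_ne_genericPoint k C P), placeOf_center]

lemma thetaFun_mem_O_iff (a : Place k C.functionField → C.functionField) {x : C}
    (hx : x ≠ genericPoint C) :
    thetaFun k C hdim a x ∈ O C x ↔
      (placeOf k C hdim x hx).1 (a (placeOf k C hdim x hx)) ≤ 1 := by
  rw [thetaFun_of_ne k C hdim a hx, placeOf_spec]

lemma thetaFun_mem {a : Place k C.functionField → C.functionField}
    (ha : a ∈ adele k C.functionField) : thetaFun k C hdim a ∈ (Asub C).S ⊤ := by
  have hfin : {P : Place k C.functionField | ¬ P.1 (a P) ≤ 1}.Finite := ha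
  refine ⟨fun y _ => ⟨⊤, trivial, (hfin.image (center k C)).subset ?_⟩, fun x hx => absurd trivial hx,
    dif_neg (not_not.2 rfl)⟩
  rintro x ⟨-, hx⟩
  have hxg : x ≠ genericPoint C := by
    rintro rfl
    exact hx (mem_O_genericPoint C _)
  rw [thetaFun_mem_O_iff k C hdim a hxg] at hx
  exact ⟨placeOf k C hdim x hxg, hx, center_placeOf k C hdim x hxg⟩

/-- Repartitions as global sections of `𝒜`. -/
noncomputable def theta : adele k C.functionField →+ (Asub C).S ⊤ where
  toFun a := ⟨thetaFun k C hdim a.1, thetaFun_mem k C hdim a.2⟩
  map_zero' := by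
    refine Subtype.ext (funext fun x => ?_)
    change thetaFun k C hdim 0 x = 0
    unfold thetaFun
    split_ifs <;> rfl
  map_add' a b := by
    refine Subtype.ext (funext fun x => ?_)
    change thetaFun k C hdim (a.1 + b.1) x = thetaFun k C hdim a.1 x + thetaFun k C hdim b.1 x
    unfold thetaFun
    split_ifs
    · rfl
    · rw [add_zero]

lemma theta_apply (a : adele k C.functionField) :
    (theta k C hdim a).1 = thetaFun k C hdim a.1 := rfl

lemma theta_surjective : Function.Surjective (theta k C hdim) := by
  intro b
  have hfin := finite_bad k C b.2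
  have hmem : (fun P : Place k C.functionField => b.1 (center k C P)) ∈
      adele k C.functionField := by
    change {P : Place k C.functionField | ¬ P.1 (b.1 (center k C P)) ≤ 1}.Finite
    refine (hfin.preimage ((center_injective k C hdim).injOn)).subset ?_
    intro P hP
    change b.1 (center k C P) ∉ O C (center k C P)
    rwa [mem_O_center k C hdim]
  refine ⟨⟨_, hmem⟩, Subtype.ext (funext fun x => ?_)⟩
  change thetaFun k C hdim _ x = b.1 x
  by_cases hx : x = genericPoint C
  · rw [hx, b.2.2.2]
    exact dif_neg (not_not.2 rfl)
  · rw [thetaFun_of_ne k C hdim _ hx]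
    change b.1 (center k C (placeOf k C hdim x hx)) = b.1 x
    rw [center_placeOf]

lemma theta_mem_range_iff (a : adele k C.functionField) :
    theta k C hdim a ∈ (phiHom k C hdim ⊤).range ↔ a ∈ ADK (0 : Divisor k C.functionField) := by
  constructor
  · rintro ⟨g, hg⟩
    have hgx : ∀ P : Place k C.functionField,
        a.1 P = g.1 (genericPoint C) - g.1 (center k C P) := by
      intro P
      have := congrArg (fun b : (Asub C).S ⊤ => b.1 (center k C P)) hg
      change phiFun C ⊤ g.1 (center k C P) = thetaFun k C hdim a.1 (center k C P) at this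
      rw [thetaFun_center, phiFun_of_mem C (U := ⊤) _ (Opens.mem_top _)
        (center_ne_genericPoint k C P)] at this
      exact this.symm
    change a.1 ∈ AD (0 : Divisor k C.functionField) ⊔ LinearMap.range (diag k C.functionField)
    rw [Submodule.mem_sup]
    refine ⟨fun P => -g.1 (center k C P), ?_, fun _ => g.1 (genericPoint C),
      ⟨g.1 (genericPoint C), rfl⟩, ?_⟩
    · intro P
      rw [Finsupp.zero_apply, WithZero.exp_zero, Valuation.map_neg,
        ← mem_O_center k C hdim]
      exact g.2.1 _
    · funext P
      change -g.1 (center k C P) + g.1 (genericPoint C) = a.1 P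
      rw [hgx P]
      ring
  · intro ha
    change a.1 ∈ AD (0 : Divisor k C.functionField) ⊔ LinearMap.range (diag k C.functionField)
      at ha
    rw [Submodule.mem_sup] at ha
    obtain ⟨b, hb, _, ⟨c, rfl⟩, hbc⟩ := ha
    let g : C → C.functionField := fun x =>
      if hx : x ≠ genericPoint C then -b (placeOf k C hdim x hx) else c
    have hgmem : g ∈ (Msub C).S ⊤ := by
      refine ⟨fun x => ?_, fun x hx => absurd trivial hx⟩
      by_cases hx : x = genericPoint C
      · rw [hx]
        exact mem_O_genericPoint C _
      · change (if hx : x ≠ genericPoint C then -b (placeOf k C hdim x hx) else c) ∈ O C x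
        rw [dif_pos hx]
        refine neg_mem ?_
        rw [← placeOf_spec k C hdim x hx]
        have := hb (placeOf k C hdim x hx)
        rwa [Finsupp.zero_apply, WithZero.exp_zero] at this
    refine ⟨⟨g, hgmem⟩, Subtype.ext (funext fun x => ?_)⟩
    change phiFun C ⊤ g x = thetaFun k C hdim a.1 x
    by_cases hx : x = genericPoint C
    · rw [hx]
      unfold phiFun thetaFun
      rw [if_neg (fun h => h.2 rfl), dif_neg (not_not.2 rfl)]
    · rw [phiFun_of_mem C (U := ⊤) _ (Opens.mem_top _) hx, thetaFun_of_ne k C hdim _ hx]
      change (if hx : genericPoint C ≠ genericPoint C then _ else c) -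
        (if hx : x ≠ genericPoint C then -b (placeOf k C hdim x hx) else c) = _
      rw [dif_neg (not_not.2 rfl), dif_pos hx, ← hbc]
      change c - -b (placeOf k C hdim x hx) = b (placeOf k C hdim x hx) + c
      ring

end Groth.Agent.Lib.Helper34.Curve
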