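import Groth.Agent.Lib.Helper34.Adelic.Adele

/-!
# `#H¹(C, O_C) = q^g` with `g` the genus of the function field (helper34)
-/

set_option autoImplicit false
set_option linter.style.haveILetI false

namespace Groth.Agent.Lib.Helper34.Curve

universe u

open AlgebraicGeometry CategoryTheory FunFld IsLocalRing Opposite TopologicalSpace
open Groth.Agent.Lib.Helper34.FunSheaf Groth.Agent.Lib.Helper88.FF

variable (k : Type u) [Field k] (C : Scheme.{u}) [C.Over (Spec (CommRingCat.of k))] [IsIntegral C]
  [Smooth (C ↘ Spec (CommRingCat.of k))] [IsProper (C ↘ Spec (CommRingCat.of k))]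
  [GeometricallyIrreducible (C ↘ Spec (CommRingCat.of k))] [PerfectField k]
  (hdim : topologicalKrullDim C = 1)

/-- `A/(A(0)+K) ≃ 𝒜(C)/im ℳ(C)`. -/
noncomputable def adeleQuotEquiv :
    (adele k C.functionField ⧸ (ADK (0 : Divisor k C.functionField)).toAddSubgroup) ≃+
      ((Asub C).S ⊤ ⧸ (phiHom k C hdim ⊤).range) := by
  let f : adele k C.functionField →+ ((Asub C).S ⊤ ⧸ (phiHom k C hdim ⊤).range) :=
    (QuotientAddGroup.mk' (phiHom k C hdim ⊤).range).comp (theta k C hdim)
  have hf : Function.Surjective f :=
    (QuotientAddGroup.mk'_surjective _).comp (theta_surjective k C hdim)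
  have hker : f.ker = (ADK (0 : Divisor k C.functionField)).toAddSubgroup := by
    ext a
    rw [AddMonoidHom.mem_ker]
    change QuotientAddGroup.mk' _ (theta k C hdim a) = 0 ↔ a ∈ ADK 0
    rw [← theta_mem_range_iff k C hdim a]
    exact QuotientAddGroup.eq_zero_iff _
  exact (QuotientAddGroup.quotientAddEquivOfEq hker.symm).trans
    (QuotientAddGroup.quotientKerEquivOfSurjective f hf)

include hdim in
/-- The order of `H¹(C, O_C)`. -/
theorem card_H1 [Finite k] :
    Nat.card (Coh.HH C (Coh.structureModule C) 1) =
      Nat.card k ^ genus k C.functionField := by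
  have hK := isFunctionField k C hdim
  rw [← Nat.card_congr (h1Equiv k C hdim).toEquiv,
    ← Nat.card_congr (adeleQuotEquiv k C hdim).toEquiv]
  obtain ⟨hfd, hrk⟩ := finrank_adele_quot hK (0 : Divisor k C.functionField)
  rw [delta_zero hK, sub_zero] at hrk
  have hrk' : Module.finrank k (↥(adele k C.functionField) ⧸ ADK (0 : Divisor k C.functionField)) =
      genus k C.functionField := by exact_mod_cast hrk
  rw [← hrk']
  exact Module.natCard_eq_pow_finrank (K := k)
    (V := ↥(adele k C.functionField) ⧸ ADK (0 : Divisor k C.functionField))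

end Groth.Agent.Lib.Helper34.Curve
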