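import Groth.Agent.Lib.Helper34.Adelic.Maps

/-!
# Exactness of `0 → O → ℳ → 𝒜 → 0` (helper34)
-/

set_option autoImplicit false
set_option linter.style.haveILetI false

namespace Groth.Agent.Lib.Helper34.Curve

universe u

open AlgebraicGeometry CategoryTheory FunFld IsLocalRing Opposite TopologicalSpace
open Groth.Agent.Lib.Helper34.FunSheaf Groth.Agent.Lib.Helper34.ExactLocal
open scoped Classical

section psi

variable (C : Scheme.{u}) [IsIntegral C]

lemma psiHom_injective (U : C.Opens) : Function.Injective (psiHom C U) := by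
  rw [injective_iff_map_eq_zero]
  intro s hs
  apply TopCat.Presheaf.section_ext C.sheaf U s 0
  intro x hx
  have h0 : C.presheaf.germ U x hx s = 0 := by
    apply IsFractionRing.injective (C.presheaf.stalk x) C.functionField
    rw [map_zero]
    have := congrArg (fun g : (Msub C).S U => g.1 x) hs
    change psiFun C U s x = 0 at this
    rwa [psiFun_of_mem C s hx] at this
  exact h0.trans (map_zero (C.presheaf.germ U x hx).hom).symm

instance mono_psi : Mono (psi C) :=
  mono_of_injective (psi C) fun U => psiHom_injective C U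

end psi

variable (k : Type u) [Field k] (C : Scheme.{u}) [C.Over (Spec (CommRingCat.of k))] [IsIntegral C]
  [Smooth (C ↘ Spec (CommRingCat.of k))] [IsProper (C ↘ Spec (CommRingCat.of k))]
  [GeometricallyIrreducible (C ↘ Spec (CommRingCat.of k))] [PerfectField k]
  (hdim : topologicalKrullDim C = 1)

/-- The adelic resolution as a short complex. -/
noncomputable def adelicSeq : ShortComplex (CohTop.Ab C.toTopCat) :=
  ShortComplex.mk (psi C) (phi k C hdim) (psi_phi k C hdim)

lemma adelicSeq_exact : (adelicSeq k C hdim).Exact := by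
  apply exact_of_locally
  intro U g hg y hy
  change (Msub C).S U at g
  have hg' : ∀ x, x ∈ U → x ≠ genericPoint C → g.1 (genericPoint C) = g.1 x := by
    intro x hx hx'
    have := congrArg (fun a : (Asub C).S U => a.1 x) hg
    change phiFun C U g.1 x = 0 at this
    rw [phiFun_of_mem C _ hx hx'] at this
    exact sub_eq_zero.1 this
  -- the constant value lies in `O_y`
  have hc : g.1 (genericPoint C) ∈ O C y := by
    by_cases hyg : y = genericPoint C
    · rw [hyg]
      exact mem_O_genericPoint C _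
    · rw [hg' y hy hyg]
      exact g.2.1 y
  obtain ⟨t, ht⟩ := hc
  obtain ⟨V, hVU, hyV, s, hs⟩ := C.presheaf.exists_le_germ_eq t hy
  refine ⟨V, hVU, hyV, s, ?_⟩
  refine Subtype.ext (funext fun x => ?_)
  change psiFun C V s x = (((Msub C).presheaf.map (homOfLE hVU).op).hom g : (Msub C).S V).1 x
  rw [FunSub.presheaf_map_apply]
  by_cases hx : x ∈ V
  · rw [if_pos hx, psiFun_eq_generic C s hx, ← psiFun_eq_generic C s hyV, psiFun_of_mem C s hyV,
      hs, ht]
    by_cases hxg : x = genericPoint C
    · rw [hxg]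
    · exact hg' x (hVU hx) hxg
  · rw [if_neg hx, psiFun_of_notMem C s hx]

lemma epi_phi : Epi (phi k C hdim) := by
  apply epi_of_locally
  intro U a y hy
  change (Asub C).S U at a
  obtain ⟨V₁, hy₁, hfin₁⟩ := a.2.1 y hy
  obtain ⟨V₂, hy₂, hV₂⟩ := exists_nhd_mem_O k C hdim (a.1 y) y
  have hfin : ({x | x ∈ V₁ ∧ a.1 x ∉ O C x} \ {y}).Finite := hfin₁.subset Set.diff_subset
  have hcl : IsClosed ({x | x ∈ V₁ ∧ a.1 x ∉ O C x} \ {y}) := by
    apply isClosed_of_finite k C hdim hfin
    rintro x ⟨⟨-, hx⟩, -⟩ rfl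
    apply hx
    exact mem_O_genericPoint C _
  let W : C.Opens := ⟨({x | x ∈ V₁ ∧ a.1 x ∉ O C x} \ {y})ᶜ, hcl.isOpen_compl⟩
  have hyW : y ∈ W := by
    change y ∉ _
    rintro ⟨-, h⟩
    exact h rfl
  let V : C.Opens := U ⊓ V₁ ⊓ V₂ ⊓ W
  have hyV : y ∈ V := ⟨⟨⟨hy, hy₁⟩, hy₂⟩, hyW⟩
  have hVU : V ≤ U := fun x hx => hx.1.1.1
  let g : C → C.functionField := fun x =>
    if x ∈ V then (if x = genericPoint C then a.1 y else a.1 y - a.1 x) else 0
  have hgmem : g ∈ (Msub C).S V := by
    refine ⟨fun x => ?_, fun x hx => if_neg hx⟩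
    change (if x ∈ V then (if x = genericPoint C then a.1 y else a.1 y - a.1 x) else 0) ∈ O C x
    split_ifs with hxV hxg
    · rw [hxg]
      exact mem_O_genericPoint C _
    · by_cases hxy : x = y
      · rw [hxy, sub_self]
        exact zero_mem _
      · refine sub_mem (hV₂ x hxV.1.2 hxy) ?_
        by_contra hcon
        exact hxV.2 ⟨⟨hxV.1.1.2, hcon⟩, hxy⟩
    · exact zero_mem _
  refine ⟨V, hVU, hyV, (⟨g, hgmem⟩ : (Msub C).S V), ?_⟩
  refine Subtype.ext (funext fun x => ?_)
  change phiFun C V g x = (((Asub C).presheaf.map (homOfLE hVU).op).hom a : (Asub C).S V).1 x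
  rw [FunSub.presheaf_map_apply]
  by_cases hx : x ∈ V
  · rw [if_pos hx]
    by_cases hxg : x = genericPoint C
    · rw [hxg, a.2.2.2]
      unfold phiFun
      rw [if_neg]
      exact fun h => h.2 rfl
    · rw [phiFun_of_mem C _ hx hxg]
      change (if genericPoint C ∈ V then
          (if genericPoint C = genericPoint C then a.1 y else a.1 y - a.1 (genericPoint C))
          else 0) -
        (if x ∈ V then (if x = genericPoint C then a.1 y else a.1 y - a.1 x) else 0) = a.1 x
      rw [if_pos (genericPoint_mem C hx), if_pos rfl, if_pos hx, if_neg hxg]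
      ring
  · rw [if_neg hx]
    unfold phiFun
    rw [if_neg]
    exact fun h => hx h.1

theorem adelicSeq_shortExact : (adelicSeq k C hdim).ShortExact where
  exact := adelicSeq_exact k C hdim
  mono_f := mono_psi C
  epi_g := epi_phi k C hdim

instance isFlasque_M : TopCat.Sheaf.IsFlasque (Msub C).sheaf :=
  FunSub.isFlasque _ fun _ _ hVU _ hg => ⟨hg.1, fun x hx => hg.2 x fun h => hx (hVU h)⟩

end Groth.Agent.Lib.Helper34.Curve
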