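import Groth.Agent.Lib.Helper53.SheafExact

/-!
# Local criteria for exactness of sequences of abelian sheaves (helper34)
-/

set_option autoImplicit false

universe u

open CategoryTheory TopologicalSpace Opposite CategoryTheory.Limits

namespace Groth.Agent.Lib.Helper34.ExactLocal

open Groth.Agent.Lib.Helper53

variable {Y : TopCat.{u}}

/-- A morphism of abelian sheaves which is injective on sections is a monomorphism. -/
theorem mono_of_injective {F G : CohTop.Ab Y} (φ : F ⟶ G)
    (h : ∀ U : Opens Y, Function.Injective (φ.hom.app (op U))) : Mono φ := by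
  haveI : ∀ U : (Opens Y)ᵒᵖ, Mono (φ.hom.app U) := fun U =>
    (AddCommGrpCat.mono_iff_injective _).2 (h U.unop)
  haveI : Mono φ.hom := NatTrans.mono_of_mono_app _
  exact Sheaf.Hom.mono_of_presheaf_mono _ _ φ

/-- A locally surjective morphism of abelian sheaves is an epimorphism. -/
theorem epi_of_locally {F G : CohTop.Ab Y} (φ : F ⟶ G)
    (h : ∀ (U : Opens Y) (t : G.obj.obj (op U)) (y : Y), y ∈ U →
      ∃ (V : Opens Y) (hVU : V ≤ U), y ∈ V ∧
        ∃ s : F.obj.obj (op V), φ.hom.app (op V) s = G.obj.map (homOfLE hVU).op t) : Epi φ := by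
  rw [← CategoryTheory.Sheaf.isLocallySurjective_iff_epi']
  change TopCat.Presheaf.IsLocallySurjective φ.hom
  rw [TopCat.Presheaf.isLocallySurjective_iff]
  intro U t x hx
  obtain ⟨V, hVU, hxV, s, hs⟩ := h U t x hx
  exact ⟨V, hVU, ⟨s, hs⟩, hxV⟩

/-- A complex of abelian sheaves which is locally exact on sections is exact. -/
theorem exact_of_locally (S : ShortComplex (CohTop.Ab Y))
    (h : ∀ (U : Opens Y) (s : S.X₂.obj.obj (op U)), S.g.hom.app (op U) s = 0 →
      ∀ y : Y, y ∈ U → ∃ (V : Opens Y) (hVU : V ≤ U), y ∈ V ∧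
        ∃ t : S.X₁.obj.obj (op V), S.f.hom.app (op V) t = S.X₂.obj.map (homOfLE hVU).op s) :
    S.Exact := by
  rw [ShortComplex.exact_iff_epi_kernel_lift]
  rw [← CategoryTheory.Sheaf.isLocallySurjective_iff_epi']
  change TopCat.Presheaf.IsLocallySurjective (kernel.lift S.g S.f S.zero).hom
  rw [TopCat.Presheaf.isLocallySurjective_iff]
  intro U k x hx
  have hk : S.g.hom.app (op U) ((kernel.ι S.g).hom.app (op U) k) = 0 := by
    have h0 : kernel.ι S.g ≫ S.g = 0 := kernel.condition _
    have := congrArg (fun φ : kernel S.g ⟶ S.X₃ => φ.hom.app (op U) k) h0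
    exact this
  obtain ⟨V, hVU, hxV, t, ht⟩ := h U _ hk x hx
  refine ⟨V, hVU, ⟨t, ?_⟩, hxV⟩
  apply injective_app_of_mono (kernel.ι S.g) V
  have h1 : kernel.lift S.g S.f S.zero ≫ kernel.ι S.g = S.f := kernel.lift_ι _ _ _
  have h2 := congrArg (fun φ : S.X₁ ⟶ S.X₂ => φ.hom.app (op V) t) h1
  refine h2.trans (ht.trans ?_)
  have hnat := (kernel.ι S.g).hom.naturality (homOfLE hVU).op
  exact (congrArg (fun f => f k) hnat).symm

end Groth.Agent.Lib.Helper34.ExactLocal
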