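import Groth.Prelude.Def_CohTop
import Mathlib.Topology.Sheaves.SheafCondition.UniqueGluing
import Mathlib.Algebra.Category.Grp.Limits

/-!
# Sheaves of abelian groups given by subgroups of functions on the points (helper34)

For a topological space `T` and an abelian group `A`, a family `S U` of subgroups of `T → A`,
consisting of functions vanishing outside `U`, stable under cutting down to smaller opens and
determined by local conditions, defines a sheaf of abelian groups `U ↦ S U`.
-/

set_option autoImplicit false

namespace Groth.Agent.Lib.Helper34.FunSheaf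

open CategoryTheory TopologicalSpace Opposite

universe u

open scoped Classical

/-- A local family of subgroups of functions on the points of `T`. -/
structure FunSub (T : TopCat.{u}) (A : Type u) [AddCommGroup A] where
  S : Opens T → AddSubgroup (T → A)
  supp : ∀ U g, g ∈ S U → ∀ x, x ∉ U → g x = 0
  res : ∀ U V, V ≤ U → ∀ g ∈ S U, Set.indicator (V : Set T) g ∈ S V
  loc : ∀ U g, (∀ x, x ∉ U → g x = 0) →
    (∀ y ∈ U, ∃ V : Opens T, y ∈ V ∧ V ≤ U ∧ Set.indicator (V : Set T) g ∈ S V) → g ∈ S U

variable {T : TopCat.{u}} {A : Type u} [AddCommGroup A]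

namespace FunSub

variable (F : FunSub T A)

/-- Cutting down to a smaller open. -/
noncomputable def resHom {U V : Opens T} (h : V ≤ U) : F.S U →+ F.S V where
  toFun g := ⟨Set.indicator (V : Set T) g.1, F.res U V h g.1 g.2⟩
  map_zero' := Subtype.ext (by funext x; simp)
  map_add' a b := Subtype.ext (Set.indicator_add' (V : Set T) a.1 b.1)

lemma resHom_apply {U V : Opens T} (h : V ≤ U) (g : F.S U) (x : T) :
    (F.resHom h g).1 x = if x ∈ V then g.1 x else 0 := by
  change Set.indicator (V : Set T) g.1 x = _
  rw [Set.indicator_apply]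
  rfl

/-- The presheaf of abelian groups `U ↦ S U`. -/
noncomputable def presheaf : (Opens T)ᵒᵖ ⥤ AddCommGrpCat.{u} where
  obj U := AddCommGrpCat.of (F.S U.unop)
  map {U V} f := AddCommGrpCat.ofHom (F.resHom (leOfHom f.unop))
  map_id U := by
    ext g x
    change (F.resHom le_rfl g).1 x = g.1 x
    rw [resHom_apply]
    split_ifs with hx
    · rfl
    · exact (F.supp _ _ g.2 x hx).symm
  map_comp {U V W} f g := by
    ext s x
    change (F.resHom ((leOfHom g.unop).trans (leOfHom f.unop)) s).1 x =
      (F.resHom (leOfHom g.unop) (F.resHom (leOfHom f.unop) s)).1 x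
    rw [resHom_apply, resHom_apply, resHom_apply]
    split_ifs with h1 h2
    · rfl
    · exact absurd (leOfHom g.unop h1) h2
    · rfl

lemma presheaf_map_apply {U V : (Opens T)ᵒᵖ} (f : U ⟶ V) (g : F.S U.unop) (x : T) :
    ((F.presheaf.map f).hom g : F.S V.unop).1 x = if x ∈ V.unop then g.1 x else 0 :=
  F.resHom_apply (leOfHom f.unop) g x

theorem isSheaf : Presheaf.IsSheaf (Opens.grothendieckTopology T) F.presheaf := by
  refine (TopCat.Presheaf.isSheaf_iff_isSheafUniqueGluing _).2 ?_
  intro ι U sf hsf
  -- the glued function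
  let val : ∀ i, (T → A) := fun i => (show F.S (U i) from sf i).1
  have hval : ∀ i, val i ∈ F.S (U i) := fun i => (show F.S (U i) from sf i).2
  have hcompat : ∀ i j x, x ∈ U i → x ∈ U j → val i x = val j x := by
    intro i j x hi hj
    have h := congrArg (fun t : F.S (U i ⊓ U j) => t.1 x) (hsf i j)
    change ((F.presheaf.map (Opens.infLELeft (U i) (U j)).op).hom (sf i) : F.S _).1 x =
      ((F.presheaf.map (Opens.infLERight (U i) (U j)).op).hom (sf j) : F.S _).1 x at h
    rw [presheaf_map_apply, presheaf_map_apply] at h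
    have hxij : x ∈ (op (U i ⊓ U j)).unop := ⟨hi, hj⟩
    simp only [if_pos hxij] at h
    exact h
  let s : T → A := fun x => if h : ∃ i, x ∈ U i then val h.choose x else 0
  have hs : ∀ i x, x ∈ U i → s x = val i x := by
    intro i x hx
    have h : ∃ i, x ∈ U i := ⟨i, hx⟩
    change (if h : ∃ i, x ∈ U i then val h.choose x else 0) = _
    rw [dif_pos h]
    exact hcompat _ _ x h.choose_spec hx
  have hs0 : ∀ x, x ∉ iSup U → s x = 0 := by
    intro x hx
    have h : ¬ ∃ i, x ∈ U i := fun ⟨i, hi⟩ => hx (Opens.mem_iSup.2 ⟨i, hi⟩)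
    change (if h : ∃ i, x ∈ U i then val h.choose x else 0) = _
    rw [dif_neg h]
  have hind : ∀ i, Set.indicator (U i : Set T) s = val i := by
    intro i
    funext x
    rw [Set.indicator_apply]
    split_ifs with hx
    · exact hs i x hx
    · exact (F.supp _ _ (hval i) x hx).symm
  have hmem : s ∈ F.S (iSup U) := by
    apply F.loc _ _ hs0
    intro y hy
    obtain ⟨i, hi⟩ := Opens.mem_iSup.1 hy
    refine ⟨U i, hi, le_iSup U i, ?_⟩
    rw [hind i]
    exact hval i
  refine ⟨(⟨s, hmem⟩ : F.S (iSup U)), ?_, ?_⟩
  · intro i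
    apply Subtype.ext
    funext x
    change ((F.presheaf.map (Opens.leSupr U i).op).hom (⟨s, hmem⟩ : F.S (iSup U)) : F.S _).1 x =
      val i x
    rw [presheaf_map_apply, ← hind i, Set.indicator_apply]
    rfl
  · intro t ht
    apply Subtype.ext
    funext x
    change (show F.S (iSup U) from t).1 x = s x
    by_cases hx : x ∈ iSup U
    · obtain ⟨i, hi⟩ := Opens.mem_iSup.1 hx
      rw [hs i x hi]
      have h := congrArg (fun t : F.S (U i) => t.1 x) (ht i)
      change ((F.presheaf.map (Opens.leSupr U i).op).hom t : F.S _).1 x = val i x at h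
      rw [presheaf_map_apply, if_pos (show x ∈ (op (U i)).unop from hi)] at h
      exact h
    · rw [hs0 x hx]
      exact F.supp _ _ (show F.S (iSup U) from t).2 x hx

/-- The sheaf of abelian groups `U ↦ S U`. -/
noncomputable def sheaf : CohTop.Ab T := ⟨F.presheaf, F.isSheaf⟩

/-- Sections of the sheaf are elements of the subgroup. -/
lemma sheaf_obj (U : Opens T) : (F.sheaf.obj.obj (op U) : Type u) = F.S U := rfl

/-- If `S V ≤ S U` for `V ≤ U`, the sheaf is flasque. -/
theorem isFlasque (h : ∀ U V : Opens T, V ≤ U → F.S V ≤ F.S U) :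
    TopCat.Sheaf.IsFlasque F.sheaf where
  epi {U V} i := by
    rw [AddCommGrpCat.epi_iff_surjective]
    intro g
    refine ⟨(⟨(show F.S V.unop from g).1, h _ _ (leOfHom i.unop) (show F.S V.unop from g).2⟩ :
      F.S U.unop), ?_⟩
    apply Subtype.ext
    funext x
    change ((F.presheaf.map i).hom _ : F.S _).1 x = (show F.S V.unop from g).1 x
    rw [presheaf_map_apply]
    split_ifs with hx
    · rfl
    · exact (F.supp _ _ (show F.S V.unop from g).2 x hx).symm

end FunSub

end Groth.Agent.Lib.Helper34.FunSheaf
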