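import Groth.Agent.Lib.Helper34.Adelic.Exact
import Groth.Agent.Lib.Helper53.Flasque
import Groth.Agent.Lib.Helper53.ExtCompare

/-!
# `H¹(C, O_C)` as a quotient of the adelic sections (helper34)
-/

set_option autoImplicit false
set_option linter.style.haveILetI false

namespace Groth.Agent.Lib.Helper34.Curve

universe u

open AlgebraicGeometry CategoryTheory FunFld IsLocalRing Opposite TopologicalSpace
open Groth.Agent.Lib.Helper34.FunSheaf Groth.Agent.Lib.Helper34.ExactLocal
open Groth.Agent.Lib.Helper53 Groth.Agent.Lib.Helper53.ExtCompare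
open scoped Classical

variable (k : Type u) [Field k] (C : Scheme.{u}) [C.Over (Spec (CommRingCat.of k))] [IsIntegral C]
  [Smooth (C ↘ Spec (CommRingCat.of k))] [IsProper (C ↘ Spec (CommRingCat.of k))]
  [GeometricallyIrreducible (C ↘ Spec (CommRingCat.of k))] [PerfectField k]
  (hdim : topologicalKrullDim C = 1)

open Abelian in
/-- `H¹(C, O_C)` is the cokernel of `ℳ(C) → 𝒜(C)`. -/
noncomputable def h1Equiv :
    ((Asub C).S ⊤ ⧸ (phiHom k C hdim ⊤).range) ≃+ Coh.HH C (Coh.structureModule C) 1 := by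
  have hS := adelicSeq_shortExact k C hdim
  have hT : Limits.IsTerminal (⊤ : Opens C.toTopCat) := Limits.isTerminalTop
  have h₂ : ∀ (n : ℕ) (x : Ext ((constantSheaf (Opens.grothendieckTopology C.toTopCat)
      AddCommGrpCat.{u}).obj (AddCommGrpCat.of (ULift ℤ))) (adelicSeq k C hdim).X₂ (n + 1)),
      x = 0 :=
    fun n x => ext_succ_eq_zero_of_isFlasque _ constantSheaf_lift n (Msub C).sheaf x
  refine (QuotientAddGroup.congr _ _ (Sheaf.H.equiv₀ (Asub C).sheaf hT).symm ?_).trans
    (extOneEquiv hS _ h₂)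
  ext y
  constructor
  · rintro ⟨a, ⟨g, rfl⟩, rfl⟩
    exact ⟨(Sheaf.H.equiv₀ (Msub C).sheaf hT).symm g,
      Sheaf.H.equiv₀_symm_naturality hT (phi k C hdim) g⟩
  · rintro ⟨x, rfl⟩
    refine ⟨_, ⟨Sheaf.H.equiv₀ (Msub C).sheaf hT x, rfl⟩, ?_⟩
    have := Sheaf.H.equiv₀_symm_naturality hT (phi k C hdim)
      (Sheaf.H.equiv₀ (Msub C).sheaf hT x)
    rw [AddEquiv.symm_apply_apply] at this
    exact this.symm

end Groth.Agent.Lib.Helper34.Curve
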