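import Groth.Agent.Lib.Helper34.Adelic.Sheaves

/-!
# The maps `O → ℳ → 𝒜` (helper34)
-/

set_option autoImplicit false
set_option linter.style.haveILetI false

namespace Groth.Agent.Lib.Helper34.Curve

universe u

open AlgebraicGeometry CategoryTheory FunFld IsLocalRing Opposite TopologicalSpace
open Groth.Agent.Lib.Helper34.FunSheaf
open scoped Classical

section psi

variable (C : Scheme.{u}) [IsIntegral C]

lemma genericPoint_mem {V : C.Opens} {x : C} (hx : x ∈ V) : genericPoint C ∈ V :=
  ((genericPoint_spec C).mem_open_set_iff V.isOpen).2 ⟨x, trivial, hx⟩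

/-- The function on points attached to a regular function. -/
noncomputable def psiFun (U : C.Opens) (s : Γ(C, U)) : C → C.functionField :=
  fun x => if hx : x ∈ U then
    algebraMap (C.presheaf.stalk x) C.functionField (C.presheaf.germ U x hx s) else 0

lemma psiFun_of_mem {U : C.Opens} (s : Γ(C, U)) {x : C} (hx : x ∈ U) :
    psiFun C U s x =
      algebraMap (C.presheaf.stalk x) C.functionField (C.presheaf.germ U x hx s) := dif_pos hx

lemma psiFun_of_notMem {U : C.Opens} (s : Γ(C, U)) {x : C} (hx : x ∉ U) :
    psiFun C U s x = 0 := dif_neg hx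

lemma psiFun_eq_generic {U : C.Opens} (s : Γ(C, U)) {x : C} (hx : x ∈ U) :
    psiFun C U s x = psiFun C U s (genericPoint C) := by
  haveI : Nonempty U := ⟨⟨x, hx⟩⟩
  rw [psiFun_of_mem C s hx, psiFun_of_mem C s (genericPoint_mem C hx),
    Scheme.algebraMap_germ_eq_germToFunctionField, Scheme.algebraMap_germ_eq_germToFunctionField]

lemma psiFun_mem {U : C.Opens} (s : Γ(C, U)) : psiFun C U s ∈ (Msub C).S U := by
  refine ⟨fun x => ?_, fun x hx => psiFun_of_notMem C s hx⟩
  by_cases hx : x ∈ U
  · rw [psiFun_of_mem C s hx]
    exact ⟨_, rfl⟩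
  · rw [psiFun_of_notMem C s hx]
    exact zero_mem _

/-- The map `O(U) → ℳ(U)`. -/
noncomputable def psiHom (U : C.Opens) : Γ(C, U) →+ (Msub C).S U where
  toFun s := ⟨psiFun C U s, psiFun_mem C s⟩
  map_zero' := by
    apply Subtype.ext
    funext x
    change psiFun C U 0 x = 0
    unfold psiFun
    split_ifs
    · rw [map_zero, map_zero]
    · rfl
  map_add' s t := by
    apply Subtype.ext
    funext x
    change psiFun C U (s + t) x = psiFun C U s x + psiFun C U t x
    unfold psiFun
    split_ifs
    · rw [map_add, map_add]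
    · rw [add_zero]

/-- The morphism of sheaves `O → ℳ`. -/
noncomputable def psi : Coh.toAb (Coh.structureModule C) ⟶ (Msub C).sheaf :=
  ⟨{ app := fun U => AddCommGrpCat.ofHom (psiHom C U.unop)
     naturality := fun U V f => by
       ext s
       refine Subtype.ext (funext fun x => ?_)
       change psiFun C V.unop ((C.presheaf.map f).hom s) x =
         (((Msub C).presheaf.map f).hom (psiHom C U.unop s) : (Msub C).S V.unop).1 x
       rw [FunSub.presheaf_map_apply]
       by_cases hx : x ∈ V.unop
       · rw [if_pos hx, psiFun_of_mem C _ hx]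
         change _ = psiFun C U.unop s x
         rw [psiFun_of_mem C s (leOfHom f.unop hx)]
         congr 1
         exact TopCat.Presheaf.germ_res_apply C.presheaf f.unop x hx _
       · rw [if_neg hx, psiFun_of_notMem C _ hx] }⟩

lemma psi_app_apply (U : C.Opens) (s : Γ(C, U)) :
    (((psi C).hom.app (op U)) s : (Msub C).S U).1 = psiFun C U s := rfl

end psi

section phi

variable (k : Type u) [Field k] (C : Scheme.{u}) [C.Over (Spec (CommRingCat.of k))] [IsIntegral C]
  [Smooth (C ↘ Spec (CommRingCat.of k))] [IsProper (C ↘ Spec (CommRingCat.of k))]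
  [GeometricallyIrreducible (C ↘ Spec (CommRingCat.of k))] [PerfectField k]
  (hdim : topologicalKrullDim C = 1)

/-- The difference map on functions. -/
noncomputable def phiFun (U : C.Opens) (g : C → C.functionField) : C → C.functionField :=
  fun x => if x ∈ U ∧ x ≠ genericPoint C then g (genericPoint C) - g x else 0

omit [C.Over (Spec (CommRingCat.of k))] in
lemma phiFun_of_mem {U : C.Opens} (g : C → C.functionField) {x : C} (hx : x ∈ U)
    (hx' : x ≠ genericPoint C) : phiFun C U g x = g (genericPoint C) - g x := if_pos ⟨hx, hx'⟩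

include k hdim in
lemma phiFun_mem {U : C.Opens} {g : C → C.functionField} (hg : g ∈ (Msub C).S U) :
    phiFun C U g ∈ (Asub C).S U := by
  refine ⟨fun y _ => ⟨⊤, trivial,
    (finite_not_mem_O k C hdim (g (genericPoint C))).subset ?_⟩, ?_, ?_⟩
  · rintro x ⟨-, hx⟩
    intro hmem
    apply hx
    unfold phiFun
    split_ifs
    · exact sub_mem hmem (hg.1 x)
    · exact zero_mem _
  · intro x hx
    unfold phiFun
    rw [if_neg]
    exact fun h => hx h.1
  · unfold phiFun
    rw [if_neg]
    exact fun h => h.2 rfl

/-- The map `ℳ(U) → 𝒜(U)`. -/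
noncomputable def phiHom (U : C.Opens) : (Msub C).S U →+ (Asub C).S U where
  toFun g := ⟨phiFun C U g.1, phiFun_mem k C hdim g.2⟩
  map_zero' := by
    apply Subtype.ext
    funext x
    change phiFun C U 0 x = 0
    unfold phiFun
    split_ifs
    · simp
    · rfl
  map_add' a b := by
    apply Subtype.ext
    funext x
    change phiFun C U (a.1 + b.1) x = phiFun C U a.1 x + phiFun C U b.1 x
    unfold phiFun
    split_ifs
    · simp only [Pi.add_apply]
      ring
    · rw [add_zero]

/-- The morphism of sheaves `ℳ → 𝒜`. -/
noncomputable def phi : (Msub C).sheaf ⟶ (Asub C).sheaf :=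
  ⟨{ app := fun U => AddCommGrpCat.ofHom (phiHom k C hdim U.unop)
     naturality := fun U V f => by
       ext g
       refine Subtype.ext (funext fun x => ?_)
       change phiFun C V.unop
           (((Msub C).presheaf.map f).hom g : (Msub C).S V.unop).1 x =
         (((Asub C).presheaf.map f).hom (phiHom k C hdim U.unop g) : (Asub C).S V.unop).1 x
       rw [FunSub.presheaf_map_apply]
       by_cases hx : x ∈ V.unop ∧ x ≠ genericPoint C
       · rw [if_pos hx.1, phiFun_of_mem C _ hx.1 hx.2, FunSub.presheaf_map_apply,
           FunSub.presheaf_map_apply, if_pos hx.1, if_pos (genericPoint_mem C hx.1)]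
         change _ = phiFun C U.unop g.1 x
         rw [phiFun_of_mem C _ (leOfHom f.unop hx.1) hx.2]
       · have h1 : phiFun C V.unop
             (((Msub C).presheaf.map f).hom g : (Msub C).S V.unop).1 x = 0 := if_neg hx
         rw [h1]
         split_ifs with hxV
         · change _ = phiFun C U.unop g.1 x
           unfold phiFun
           rw [if_neg]
           exact fun h => hx ⟨hxV, h.2⟩
         · rfl }⟩

lemma phi_app_apply (U : C.Opens) (g : (Msub C).S U) :
    (((phi k C hdim).hom.app (op U)) g : (Asub C).S U).1 = phiFun C U g.1 := rfl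

lemma psi_phi : psi C ≫ phi k C hdim = 0 := by
  ext U s
  refine Subtype.ext (funext fun x => ?_)
  change phiFun C U.unop (psiFun C U.unop s) x = 0
  unfold phiFun
  split_ifs with hx
  · rw [psiFun_eq_generic C s hx.1, sub_self]
  · rfl

end phi

end Groth.Agent.Lib.Helper34.Curve
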