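import Groth.Agent.Lib.Helper34.Curve.Poles
import Groth.Agent.Lib.Helper34.Adelic.FunSheaf
import Groth.Agent.Lib.Helper34.Adelic.ExactLocal

/-!
# The adelic flasque resolution of the structure sheaf of a curve (helper34)

`0 → O → ℳ → 𝒜 → 0` where `ℳ(U)` consists of the functions `g` on the points of `U` with
`g x ∈ O_x` (the value at the generic point being an arbitrary rational function), and
`𝒜(U)` of the functions on the closed points of `U` with values in `K`, regular at `x` for all
but locally finitely many `x`.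
-/

set_option autoImplicit false
set_option linter.style.haveILetI false

namespace Groth.Agent.Lib.Helper34.Curve

universe u

open AlgebraicGeometry CategoryTheory FunFld IsLocalRing Opposite TopologicalSpace
open Groth.Agent.Lib.Helper34.FunSheaf
open scoped Classical

variable (k : Type u) [Field k] (C : Scheme.{u}) [IsIntegral C]

/-- The sheaf `ℳ`. -/
noncomputable def Msub : FunSub C.toTopCat C.functionField where
  S U :=
    { carrier := {g | (∀ x, g x ∈ O C x) ∧ ∀ x, x ∉ U → g x = 0}
      add_mem' := fun {a b} ha hb => ⟨fun x => add_mem (ha.1 x) (hb.1 x), fun x hx => by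
        change a x + b x = 0
        rw [ha.2 x hx, hb.2 x hx, add_zero]⟩
      zero_mem' := ⟨fun x => zero_mem _, fun x _ => rfl⟩
      neg_mem' := fun {a} ha => ⟨fun x => neg_mem (ha.1 x), fun x hx => by
        change -a x = 0
        rw [ha.2 x hx, neg_zero]⟩ }
  supp U g hg := hg.2
  res U V hVU g hg := ⟨fun x => by
    rw [Set.indicator_apply]
    split_ifs
    · exact hg.1 x
    · exact zero_mem _, fun x hx => Set.indicator_of_notMem hx _⟩
  loc U g hsupp hloc := ⟨fun y => by
    by_cases hy : y ∈ U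
    · obtain ⟨V, hyV, -, hV⟩ := hloc y hy
      have := hV.1 y
      rwa [Set.indicator_of_mem (show y ∈ (V : Set ↑C.toTopCat) from hyV)] at this
    · rw [hsupp y hy]
      exact zero_mem _, hsupp⟩

lemma mem_Msub {U : C.Opens} {g : C → C.functionField} :
    g ∈ (Msub C).S U ↔ (∀ x, g x ∈ O C x) ∧ ∀ x, x ∉ U → g x = 0 := Iff.rfl

/-- The sheaf `𝒜`. -/
noncomputable def Asub : FunSub C.toTopCat C.functionField where
  S U :=
    { carrier := {a | (∀ y ∈ U, ∃ V : C.Opens, y ∈ V ∧ {x | x ∈ V ∧ a x ∉ O C x}.Finite) ∧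
        (∀ x, x ∉ U → a x = 0) ∧ a (genericPoint C) = 0}
      add_mem' := fun {a b} ha hb => ⟨fun y hy => by
          obtain ⟨V₁, hy₁, hf₁⟩ := ha.1 y hy
          obtain ⟨V₂, hy₂, hf₂⟩ := hb.1 y hy
          refine ⟨V₁ ⊓ V₂, ⟨hy₁, hy₂⟩, (hf₁.union hf₂).subset ?_⟩
          rintro x ⟨⟨hx₁, hx₂⟩, hx⟩
          by_contra hcon
          simp only [Set.mem_union, Set.mem_setOf_eq, not_or, not_and, not_not] at hcon
          exact hx (add_mem (hcon.1 hx₁) (hcon.2 hx₂)),
        fun x hx => by
          change a x + b x = 0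
          rw [ha.2.1 x hx, hb.2.1 x hx, add_zero], by
          change a _ + b _ = 0
          rw [ha.2.2, hb.2.2, add_zero]⟩
      zero_mem' := ⟨fun y _ => ⟨⊤, trivial, by
        have : {x : C | x ∈ (⊤ : C.Opens) ∧ (0 : C → C.functionField) x ∉ O C x} = ∅ := by
          ext x
          simp only [Set.mem_setOf_eq, Set.mem_empty_iff_false, iff_false, not_and, not_not]
          intro _
          exact zero_mem _
        rw [this]
        exact Set.finite_empty⟩, fun x _ => rfl, rfl⟩
      neg_mem' := fun {a} ha => ⟨fun y hy => by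
          obtain ⟨V₁, hy₁, hf₁⟩ := ha.1 y hy
          refine ⟨V₁, hy₁, hf₁.subset ?_⟩
          rintro x ⟨hx₁, hx⟩
          refine ⟨hx₁, fun h => hx ?_⟩
          exact neg_mem h,
        fun x hx => by
          change -a x = 0
          rw [ha.2.1 x hx, neg_zero], by
          change -a _ = 0
          rw [ha.2.2, neg_zero]⟩ }
  supp U g hg := hg.2.1
  res U V hVU a ha := ⟨fun y hy => by
      obtain ⟨V₁, hy₁, hf₁⟩ := ha.1 y (hVU hy)
      refine ⟨V₁, hy₁, hf₁.subset ?_⟩
      rintro x ⟨hx₁, hx⟩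
      refine ⟨hx₁, fun h => hx ?_⟩
      rw [Set.indicator_apply]
      split_ifs
      · exact h
      · exact zero_mem _,
    fun x hx => Set.indicator_of_notMem hx _, by
      rw [Set.indicator_apply]
      split_ifs
      · exact ha.2.2
      · rfl⟩
  loc U a hsupp hloc := ⟨fun y hy => by
      obtain ⟨V, hyV, -, hV⟩ := hloc y hy
      obtain ⟨V₁, hy₁, hf₁⟩ := hV.1 y hyV
      refine ⟨V ⊓ V₁, ⟨hyV, hy₁⟩, hf₁.subset ?_⟩
      rintro x ⟨⟨hxV, hx₁⟩, hx⟩
      refine ⟨hx₁, ?_⟩
      rwa [Set.indicator_of_mem (show x ∈ (V : Set ↑C.toTopCat) from hxV)],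
    hsupp, by
      by_cases hξ : genericPoint C ∈ U
      · obtain ⟨V, hyV, -, hV⟩ := hloc _ hξ
        have := hV.2.2
        rwa [Set.indicator_of_mem (show genericPoint C ∈ (V : Set ↑C.toTopCat) from hyV)] at this
      · exact hsupp _ hξ⟩

lemma mem_Asub {U : C.Opens} {a : C → C.functionField} :
    a ∈ (Asub C).S U ↔
      (∀ y ∈ U, ∃ V : C.Opens, y ∈ V ∧ {x | x ∈ V ∧ a x ∉ O C x}.Finite) ∧
        (∀ x, x ∉ U → a x = 0) ∧ a (genericPoint C) = 0 := Iff.rfl

end Groth.Agent.Lib.Helper34.Curve
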